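import Groth.Agent.HodgeIdx81.RR
import Groth.Agent.HodgeIdx81.RealNakai
import Groth.Agent.SurfProj.Ample
import Groth.Agent.AbSch51.InvSection
import Groth.Agent.VertInter.Comp
import Groth.Agent.CurveCoh.Euler

/-!
# Intersection with effective divisors, with few imports

The elementary part of `HodgeIdx81.Proper`, `HodgeIdx81.Sub` and `HodgeIdx81.Fundamental`.
-/

set_option autoImplicit false
set_option linter.style.haveILetI false

universe u

open CategoryTheory CategoryTheory.Limits AlgebraicGeometry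
open Groth.Agent.ProjTwist Groth.Agent.HodgeIdx81

noncomputable section

namespace Groth.Agent.HodgeLite47

attribute [local irreducible] Curv2.euler

theorem mem_support {X : Scheme.{u}} (C : X.IdealSheafData) [IsIntegral C.subscheme] :
    C.subschemeι (genericPoint ↥C.subscheme) ∈ (C.support : Set X) :=
  C.range_subschemeι ▸ Set.mem_range_self _

variable (k : Type u) [Field k] {X : Scheme.{u}} [X.Over (Spec (CommRingCat.of k))]
  [IsProper (X ↘ Spec (CommRingCat.of k))] [IsIntegral X]

include k in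
/-- The inverse of an effective divisor has a section, generating exactly off the divisor. -/
theorem exists_section_of_ideal {I : X.IdealSheafData} (hI : FGA.IsEffCartier I) :
    ∃ (M : X.Modules) (_ : PicF.IsInvertible M) (_ : CohB1.tensorMod (ClSub.idealMod I) M ≅ Coh.structureModule X)
      (s₁ : Coh.structureModule X ⟶ CohB1.tensorPow M 1), s₁ ≠ 0 ∧
        (CohB1.genLocus _ s₁ : Set X) = (I.support : Set X)ᶜ ∧ genericPoint X ∈ CohB1.genLocus _ s₁ := by
  haveI := EulerChar.isNoetherian k (X := X)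
  have hIi := IdealSh.IdealMod.isInvertible_of_isEffCartierIdeal I hI
  obtain ⟨M, hM, ⟨e⟩⟩ := PicLaw.exists_inverse hIi
  have eM : CohB1.tensorMod M (ClSub.idealMod I) ≅ Coh.structureModule X := ProjTwist.tensComm _ _ ≪≫ e
  obtain ⟨s₁, hs₁⟩ := AbSch51.InvSection.exists_section I hI hM ⟨eM⟩
  have hMp := AmpleLib.isInvertible_tensorPow hM 1
  have hgen : genericPoint X ∈ CohB1.genLocus _ s₁ := by
    show genericPoint X ∈ (CohB1.genLocus _ s₁ : Set X)
    rw [hs₁]
    intro hη
    have htop : (I.support : Set X) = Set.univ := Set.eq_univ_of_univ_subset fun x _ =>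
      I.support.isClosed.stableUnderSpecialization (genericPoint_specializes x) hη
    obtain ⟨U, hU, a, ha, haI⟩ := hI (genericPoint X)
    have h0 := I.coe_support_inter U
    rw [htop, Set.univ_inter, haI] at h0
    have h1 : genericPoint X ∈ X.zeroLocus (U := U.1) {a} := by
      rw [← Scheme.zeroLocus_span]
      exact (h0.le hU).1
    rw [Scheme.zeroLocus_def] at h1
    simp only [Set.mem_singleton_iff, Set.iInter_iInter_eq_left, Set.mem_compl_iff] at h1
    haveI : Nonempty U.1 := ⟨⟨_, hU⟩⟩
    refine h1 (((genericPoint_spec X).mem_open_set_iff (X.basicOpen a).2).2 ?_)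
    rw [Set.univ_inter]
    rw [Set.nonempty_iff_ne_empty]
    exact fun h => nonZeroDivisors.ne_zero ha (basicOpen_eq_bot_iff a |>.1 (SetLike.coe_injective h))
  have hs0 : s₁ ≠ 0 := fun h => by
    subst h
    have hb := (HilbPolyX.stalk_sec_bijective _ hgen).1
    obtain ⟨eO⟩ := EulerChar.stalk_ofRank
      (ProjTwist.isFinLocFreeOfRank_one (PicLoc.isInvertible_structureModule X)) (genericPoint X)
    have : Subsingleton ((Coh.structureModule X).presheaf.stalk (genericPoint X)) := by
      refine ⟨fun a b => hb ?_⟩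
      rw [CohDev.stalkLin_zero_apply, CohDev.stalkLin_zero_apply]
    have : Subsingleton (Fin 1 → X.presheaf.stalk (genericPoint X)) := eO.injective.subsingleton
    exact one_ne_zero (congrFun (Subsingleton.elim (1 : Fin 1 → X.presheaf.stalk (genericPoint X)) 0) 0)
  exact ⟨M, hM, e, s₁, hs0, hs₁, hgen⟩

variable (hdim : topologicalKrullDim X = ((2 : ℕ) : WithBot ℕ∞))
  (hreg : ∀ x : X, IsRegularLocalRing (X.presheaf.stalk x))

include hdim hreg in
/-- An effective divisor as a combination of the curves in its support. -/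
theorem pr_ideal_pieces {I : X.IdealSheafData} (hI : FGA.IsEffCartier I) :
    ∃ (s : Finset X) (m : X → ℕ),
      (∀ ξ ∈ s, ξ ∈ (I.support : Set X) ∧ IsIntegral (IntMult.ptIdeal ξ).subscheme ∧
        topologicalKrullDim ↥((IntMult.ptIdeal ξ).support : Set X) = ((1 : ℕ) : WithBot ℕ∞) ∧
        PicF.IsInvertible (ClSub.idealMod (IntMult.ptIdeal ξ))) ∧
      ∀ B : X.Modules, PicF.IsInvertible B → pr k B (ClSub.idealMod I) =
        ∑ ξ ∈ s, (m ξ : ℤ) * pr k B (ClSub.idealMod (IntMult.ptIdeal ξ)) := by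
  haveI := EulerChar.isNoetherian k (X := X)
  have hIi := IdealSh.IdealMod.isInvertible_of_isEffCartierIdeal I hI
  obtain ⟨M, hM, e, t, ht, hloc, -⟩ := exists_section_of_ideal k hI
  let M₁ := CohB1.tensorPow M 1
  have hM₁ : PicF.IsInvertible M₁ := AmpleLib.isInvertible_tensorPow hM 1
  have hO := PicLoc.isInvertible_structureModule X
  have hOc := VBLib.isCoh_of_ofRank (isFinLocFreeOfRank_one hO)
  have hMc := VBLib.isCoh_of_ofRank (isFinLocFreeOfRank_one hM₁)
  haveI := EulerChar.mono_of_ne_zero hO hM₁ t ht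
  have hQ : Coh.IsCoh (cokernel t) := CohDev.isCoh_cokernel t hOc.1 hMc
  have hQd : topologicalKrullDim ↥(CohB1.support (cokernel t)) ≤ ((1 : ℕ) : WithBot ℕ∞) := by
    refine Snapper.le_of_lt_succ ?_
    refine CohDev.dim_lt_of_irreducible (CohDev.isClosed_support hQ)
      (IrreducibleSpace.isIrreducible_univ X) (Set.subset_univ _) (fun h =>
        CohDev.not_mem_support_cokernel t (EulerChar.bijective_stalk_generic hO hM₁ t ht).2
          (h (Set.mem_univ (genericPoint X)))) ?_
    rw [IsHomeomorph.topologicalKrullDim_eq _ (Homeomorph.Set.univ X).isHomeomorph, hdim]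
  have hT := CohDev.isClosed_support hQ
  have hfin := IntProd70.finite_top hT hQd
  have hs : ∀ ξ, ξ ∈ hfin.toFinset ↔ ξ ∈ CohB1.support (cokernel t) ∧
      topologicalKrullDim ↥(closure ({ξ} : Set X)) = ((1 : ℕ) : WithBot ℕ∞) :=
    fun ξ => hfin.mem_toFinset
  have hs' : ∀ ξ ∈ hfin.toFinset, ξ ∈ (I.support : Set X) ∧ IsIntegral (IntMult.ptIdeal ξ).subscheme ∧
      topologicalKrullDim ↥((IntMult.ptIdeal ξ).support : Set X) = ((1 : ℕ) : WithBot ℕ∞) ∧
      PicF.IsInvertible (ClSub.idealMod (IntMult.ptIdeal ξ)) := fun ξ hξ => by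
    have hint : IsIntegral (IntMult.ptIdeal ξ).subscheme :=
      S16188.isIntegral_subscheme _ isIrreducible_singleton.closure
    haveI := hint
    have hd1 : topologicalKrullDim ↥((IntMult.ptIdeal ξ).support : Set X) = ((1 : ℕ) : WithBot ℕ∞) := by
      rw [CohDev.coe_support_ptIdeal]; exact ((hs ξ).1 hξ).2
    refine ⟨?_, hint, hd1, isInvertible_of_curve k hreg hdim _ hd1⟩
    by_contra hξI
    have hmem : ξ ∈ (CohB1.genLocus M₁ t : Set X) := hloc.symm ▸ hξI
    exact CohDev.not_mem_support_cokernel t (HilbPolyX.stalk_sec_bijective t hmem).2 ((hs ξ).1 hξ).1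
  refine ⟨hfin.toFinset, fun ξ => (IntProd70.len (cokernel t) ξ).toNat, hs', fun B hB => ?_⟩
  have h1 : ∀ {G : X.Modules}, Coh.IsCoh G → Snapper.intE k (fun _ : Fin 1 => B) G =
      - NumTriv.deg1 k G B := fun {G} hG => by
    rw [show (fun _ : Fin 1 => B) = Fin.cons B (fun i : Fin 0 => B) from
      funext fun i => by fin_cases i; rfl,
      Snapper.intE_cons k (fun i => i.elim0) hB hG, map_sub,
      Snapper.intK_kcl k (fun i => i.elim0) (Snapper.isCoh_tensorMod k hB hG),
      Snapper.intK_kcl k (fun i => i.elim0) hG, Snapper.intE_zero, Snapper.intE_zero, NumTriv.deg1,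
      EulerChar.euler_iso k (tensComm G B), neg_sub]
  have h := IntProd70.intE_components k (L := fun _ : Fin 1 => B) (fun _ => hB) hT hQd _ hs hQ subset_rfl
  rw [h1 hQ, Finset.sum_congr rfl fun ξ _ => by rw [h1 (CohDev.isCoh_oz ξ), mul_neg],
    Finset.sum_neg_distrib, neg_inj] at h
  have hS := HilbPolyX.shortExact_of_mono t
  have h2 : Curv2.euler k X M₁ = Curv2.euler k X (Coh.structureModule X) + Curv2.euler k X (cokernel t) :=
    EulerChar.euler_add' k t (cokernel.π t) (cokernel.condition t) hS hOc hMc hQ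
  have h3 : Curv2.euler k X (CohB1.tensorMod B M₁) =
      Curv2.euler k X (CohB1.tensorMod B (Coh.structureModule X)) +
        Curv2.euler k X (CohB1.tensorMod B (cokernel t)) :=
    euler_tens_add k (S := ShortComplex.mk t (cokernel.π t) (cokernel.condition t)) hB hS hOc hMc hQ
  rw [EulerChar.euler_iso k (tensOne B)] at h3
  have h4 : pr k B M₁ = NumTriv.deg1 k (cokernel t) B := by
    rw [NumTriv.deg1, pr, EulerChar.euler_iso k (tensComm (cokernel t) B)]
    linarith
  have e1 : pr k B M₁ = pr k B M := pr_congr k (Iso.refl B) (oneTens M : M₁ ≅ M)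
  rw [e1, pr_comm, pr_inv_left k hdim.le hIi hM hB e, pr_comm, h] at h4
  rw [show pr k B (ClSub.idealMod I) = -∑ ξ ∈ hfin.toFinset, _ from eq_neg_of_add_eq_zero_left
    (by rw [← h4]; ring), ← Finset.sum_neg_distrib]
  refine Finset.sum_congr rfl fun ξ hξ => ?_
  have h5 : NumTriv.deg1 k (Cyc.closureStructureSheaf ξ) B = -pr k B (ClSub.idealMod (IntMult.ptIdeal ξ)) :=
    deg1_quotMod k (hs' ξ hξ).2.2.2 hB
  rw [h5]
  ring

include hdim in
theorem pr_mul {I J : X.IdealSheafData} (hI : BlowUp.IsEffCartierIdeal I)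
    (hJ : BlowUp.IsEffCartierIdeal J) {B : X.Modules} (hB : PicF.IsInvertible B) :
    pr k B (ClSub.idealMod (I * J)) = pr k B (ClSub.idealMod I) + pr k B (ClSub.idealMod J) := by
  haveI := EulerChar.isNoetherian k (X := X)
  obtain ⟨e⟩ := VertInter.nonempty_idealMod_mul hI hJ
  rw [← pr_congr k (Iso.refl B) e, pr_comm, pr_add_left k hdim.le
    (IdealSh.IdealMod.isInvertible_of_isEffCartierIdeal I hI)
    (IdealSh.IdealMod.isInvertible_of_isEffCartierIdeal J hJ) hB, pr_comm k _ B, pr_comm k _ B]

include hdim hreg in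
theorem pr_curve_nonneg {R : X.IdealSheafData} (hR : BlowUp.IsEffCartierIdeal R)
    (C : X.IdealSheafData) [IsIntegral C.subscheme]
    (hC : topologicalKrullDim ↥(C.support : Set X) = ((1 : ℕ) : WithBot ℕ∞))
    (h : C.subschemeι (genericPoint ↥C.subscheme) ∉ (R.support : Set X)) :
    0 ≤ pr k (ClSub.idealMod R) (ClSub.idealMod C) := by
  have hCi := isInvertible_of_curve k hreg hdim C hC
  obtain ⟨s, m, hs, hp⟩ := pr_ideal_pieces k hdim hreg (I := R) hR
  rw [pr_comm, hp _ hCi]
  refine Finset.sum_nonneg fun η hη => mul_nonneg (Int.natCast_nonneg _) ?_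
  obtain ⟨hηR, hint, hd1, hηi⟩ := hs η hη
  haveI := hint
  refine RealNakai.pr_curves_nonneg k hd1 hC hηi hCi fun e => h ?_
  have hmem := mem_support C
  have hset : (C.support : Set X) = closure {η} :=
    (congrArg (fun I : X.IdealSheafData => (I.support : Set X)) e).symm.trans (CohDev.coe_support_ptIdeal η)
  rw [hset] at hmem
  exact closure_minimal (Set.singleton_subset_iff.2 hηR) R.support.isClosed hmem

end Groth.Agent.HodgeLite47
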